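import Cfsg.Agent.H5.K547.Co2
import Cfsg.Agent.H935.Meet.Baby

/-!
# S4547: the Sylow 2-subgroups of the Baby Monster need three generators (helper5)
-/

set_option autoImplicit false

namespace Cfsg.Agent.H5.K547.Baby

open Cfsg Cfsg.Spor Cfsg.Agent.MonsterU.Lam2 Cfsg.Agent.MonsterU.Ch
open Cfsg.Agent.H68.MeetB
open Cfsg.Agent.H819.TypeTwo
open Cfsg.Agent.LThreeMB (XX Zx self Zx_normal mk exists_mk mk_eq_one mk_mul mk_one mk_inv mk_congr mk_eq_mk conj_comm
  exists_fac PB mem_PB PP mem_PP)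
open Cfsg.Agent.H821.K547
open Cfsg.Agent.H935.Meet Cfsg.Agent.H935.Meet.Baby
open Subgroup (centralizer zpowers mem_centralizer_singleton_iff)

section chart

variable {G : Type*} [Group G] {P : Subgroup G} {z j s : G} {eta : G → L2}
  {pi : Subgroup.centralizer ({z} : Set G) →* Co1}

theorem d3_of_chart_aux [Finite G] (h : Chart P z eta pi) (hj : j ∈ P) (hu : eta j = cl leechU)
    (hc : ¬ 2 ^ 42 ∣ Nat.card (XX j)) : D3 (XX j) := by
  have h2 : IsType 2 (eta j) := by rw [hu]; exact type_leechU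
  have hfin : Finite (XX j) := Quotient.finite _
  obtain ⟨ρ, hρ, -, hk⟩ := exists_rho h hj hu
  have hle : PB P j ≤ centralizer ({zb h hj} : Set (XX j)) :=
    Cfsg.Agent.LargeExtra.Nine.ToCent.le_cent (large h hj h2)
  -- the order of the centraliser
  have hcard : 2 ^ 41 ∣ Nat.card (centralizer ({zb h hj} : Set (XX j))) := by
    have h3 : Nat.card ρ.ker = 2 ^ (2 * 11 + 1) := by
      rw [hk, Nat.card_congr (Subgroup.subgroupOfEquivOfLe hle).toEquiv]
      exact card_PB h hj h2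
    have h4 := Subgroup.card_eq_card_quotient_mul_card_subgroup ρ.ker
    rw [Nat.card_congr (QuotientGroup.quotientKerEquivOfSurjective ρ hρ).toEquiv, h3,
      Cfsg.Agent.Co2Type.CardCo2.card_co2] at h4
    rw [h4]
    decide
  exact d3_of_map (centralizer ({zb h hj} : Set (XX j))) (not_dvd_index hcard hc) ρ hρ Co2.d3_co2

theorem d3_of_chart [Finite G] (h : Chart P z eta pi) (hj : j ∈ P) (h2 : IsType 2 (eta j))
    (hc : ¬ 2 ^ 42 ∣ Nat.card (XX j)) : D3 (XX j) := by
  obtain ⟨g, hg⟩ := IsType.trans (Or.inl rfl) h2 type_leechU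
  exact d3_of_chart_aux (h.smul (QuotientGroup.mk g)) hj hg hc

end chart

open Cfsg.Agent.BpSpor.MBigModel (MG zz)

/-- **`D3 B`** -/
theorem d3_baby : D3 Spor.BabyMonster := by
  have hfin := Cfsg.Agent.H848.MonsterSetup.finite
  have hfinM := Cfsg.Agent.BpSpor.MBigModel.finite
  obtain ⟨e⟩ := Cfsg.Agent.MonsterP.Equiv.equiv
  have h := Cfsg.Agent.H848.Setup.chart_transport e Cfsg.Agent.BpSpor.MBigModel.chart
  obtain ⟨S, hS, hSL⟩ := BabyFive.exists_S
  have hj : e.symm BabyFive.j ∈ (Cfsg.Agent.MonsterX.KDone.K.ι.range).comap e.toMonoidHom := by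
    rw [Subgroup.mem_comap]
    show e (e.symm BabyFive.j) ∈ _
    rw [e.apply_symm_apply]
    exact BabyFive.j_mem
  have hjj : e.symm BabyFive.j * e.symm BabyFive.j = 1 := by rw [← map_mul, BabyFive.j_sq, map_one]
  have hj1 : e.symm BabyFive.j ≠ 1 := by
    intro h1
    exact BabyFive.j_ne_one (by rwa [map_eq_one_iff _ e.symm.injective] at h1)
  have hjz : e.symm BabyFive.j ≠ e.symm zz := fun h1 => BabyFive.j_ne_zz (e.symm.injective h1)
  have hS' : Nat.card (S.map e.symm.toMonoidHom) = 125 := by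
    rw [← hS]
    exact (Nat.card_congr (Subgroup.equivMapOfInjective S _ e.symm.injective).toEquiv).symm
  have hcom : ∀ u : MG, (∀ y ∈ BabyFive.L, y * u = u * y) →
      ∀ y ∈ S.map e.symm.toMonoidHom, y * e.symm u = e.symm u * y := by
    rintro u hu _ ⟨y, hy, rfl⟩
    show e.symm y * e.symm u = e.symm u * e.symm y
    rw [← map_mul, hu y (hSL hy), map_mul]
  have h2 := type_two h hj hjj hj1 hjz hS' (hcom _ BabyFive.L_zz) (hcom _ BabyFive.L_j)
  -- the isomorphism
  obtain ⟨-, -, -, -, hc, ⟨f⟩, -⟩ := Cfsg.Agent.H819.TwoACent.main h hj h2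
  have hZ : Zx (e.symm BabyFive.j) = Subgroup.center ↥(centralizer ({e.symm BabyFive.j} : Set Spor.Monster)) := by
    apply Subgroup.map_injective (Subgroup.subtype_injective _)
    rw [Zx_map, hc]
  let f' : XX (e.symm BabyFive.j) ≃* Spor.BabyMonster := (QuotientGroup.quotientMulEquivOfEq hZ).trans f
  have hfX : Finite (XX (e.symm BabyFive.j)) := Quotient.finite _
  have hfB : Finite Spor.BabyMonster := Finite.of_equiv _ f'.toEquiv
  refine d3_congr f'.symm (d3_of_chart h hj h2 ?_)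
  rw [Nat.card_congr f'.toEquiv, Cfsg.Agent.H819.TwoACent.baby.2]
  decide

end Cfsg.Agent.H5.K547.Baby
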