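import Cfsg.Agent.H5.K547.Baby
import Cfsg.Agent.S2084

/-!
# S4547: the row of the Baby Monster, from `Good5` (helper5)
-/

set_option autoImplicit false

namespace Cfsg.Agent.H5.K547

open Cfsg Cfsg.Agent.H821.K547 Cfsg.Agent.H601.K4

universe u v

/-- all automorphisms are inner -/
theorem isInn_of_out {S : Type u} {S' : Type v} [Group S] [Group S'] (e : S ≃* S') (h : Nat.card (Cfsg.Out S') = 1)
    (τ : MulAut S) : IsInn τ := by
  let τ' : MulAut S' := e.symm.trans (τ.trans e)
  have h1 : Subsingleton (Cfsg.Out S') := (Nat.card_eq_one_iff_unique.1 h).1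
  have h2 : τ' ∈ Cfsg.Inn S' := (QuotientGroup.eq_one_iff τ').1 (Subsingleton.elim _ _)
  obtain ⟨s, hs⟩ := h2
  refine ⟨e.symm s, fun x => ?_⟩
  have h3 : τ' (e x) = s * e x * s⁻¹ := by rw [← hs]; rfl
  have h4 : e (τ x) = s * e x * s⁻¹ := by
    rw [← h3]
    show e (τ x) = e (τ (e.symm (e x)))
    rw [e.symm_apply_apply]
  apply e.injective
  rw [h4, map_mul, map_mul, map_inv, e.apply_symm_apply]

theorem row_of_out {S : Type u} {S' : Type v} [Group S] [Group S'] (e : S ≃* S') (h : Nat.card (Cfsg.Out S') = 1)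
    (hb : BaseRow S) : Row S :=
  ⟨hb, fun τ _ hn => absurd (isInn_of_out e h τ) hn⟩

theorem d3_isoB {S : Type u} [Group S] [Finite S] (h : Spor.IsoB S) : D3 S := by
  obtain ⟨e⟩ := h
  exact d3_congr e Baby.d3_baby

/-- **Row B**, from five good characters -/
theorem row_b {S : Type u} [Group S] [Finite S] (h : Spor.IsoB S) (h5 : Good5 S) : Row S := by
  have hd := d3_isoB h
  obtain ⟨e⟩ := h
  exact row_of_out e Cfsg.Agent.S2084.result (Or.inl ⟨h5, hd⟩)

end Cfsg.Agent.H5.K547
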