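import Cfsg.Agent.H5.K547.RowB
import Cfsg.Agent.H645.K4.RowB
import Cfsg.Agent.H819.TwoACent

/-!
# S4547: the row of the Baby Monster (helper5)
-/

set_option autoImplicit false

namespace Cfsg.Agent.H5.K547

open Cfsg Cfsg.Agent.H821.K547 Cfsg.Agent.H601.K4

universe u

/-- **Row B** -/
theorem rowB_fin {S : Type u} [Group S] (h : Spor.IsoB S) : Row S := by
  have hf : Finite S := by
    obtain ⟨e⟩ := h
    have h1 : Finite Spor.BabyMonster := Nat.finite_of_card_ne_zero (by rw [Cfsg.Agent.H819.TwoACent.baby.2]; norm_num)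
    exact Finite.of_equiv _ e.symm.toEquiv
  exact row_b h (Cfsg.Agent.H645.K4.B.good5_b h)

end Cfsg.Agent.H5.K547
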